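import Mathlib
import Cfsg.Agent.Lib.Comput.Check3
import Cfsg.Agent.Lib.LieModel.L34.P.Data

/-! generated by tools/cgt -/

set_option autoImplicit false
set_option maxRecDepth 100000
set_option Elab.async false

namespace CfsgLib.LieModel.L34.P

open CfsgLib.Comput

def R3_0 : RepC := ⟨15, 1, [],
  []⟩
def R3_1 : RepC := ⟨16, 1, [],
  []⟩
def R3_2 : RepC := ⟨17, 1, [],
  []⟩
def R3_3 : RepC := ⟨18, 1, [],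
  []⟩
def R3_4 : RepC := ⟨0x100f, 1, [],
  []⟩
def R3_5 : RepC := ⟨0x110f, 1, [],
  []⟩
def R3_6 : RepC := ⟨0x120f, 1, [],
  []⟩
def R3_7 : RepC := ⟨0x1110, 1, [],
  []⟩
def R3_8 : RepC := ⟨0x1210, 1, [],
  []⟩
def R3_9 : RepC := ⟨0x1211, 1, [],
  []⟩
def R3_10 : RepC := ⟨0x11100f, 1, [],
  []⟩
def R3_11 : RepC := ⟨0x12100f, 1, [],
  []⟩
def R3_12 : RepC := ⟨0x12110f, 1, [],
  []⟩
def R3_13 : RepC := ⟨0x121110, 1, [],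
  []⟩
def R3_14 : RepC := ⟨0x1211100f, 1, [],
  []⟩
def S3_0 : GenC := ⟨15, [],
  [(0, 0, 0, 1, 0), (0, 1, 0, 0, 0), (0, 2, 0, 5, 0), (0, 3, 0, 6, 0), (0, 4, 0, 7, 0), (0, 5, 0, 2, 0), (0, 6, 0, 3, 0), (0, 7, 0, 4, 0), (0, 8, 0, 11, 0), (0, 9, 0, 12, 0), (0, 10, 0, 13, 0), (0, 11, 0, 8, 0), (0, 12, 0, 9, 0), (0, 13, 0, 10, 0), (0, 14, 0, 15, 0), (0, 15, 0, 14, 0)], 0⟩
def S3_1 : GenC := ⟨16, [],
  [(0, 0, 0, 2, 0), (0, 1, 0, 5, 0), (0, 2, 0, 0, 0), (0, 3, 0, 8, 0), (0, 4, 0, 9, 0), (0, 5, 0, 1, 0), (0, 6, 0, 11, 0), (0, 7, 0, 12, 0), (0, 8, 0, 3, 0), (0, 9, 0, 4, 0), (0, 10, 0, 14, 0), (0, 11, 0, 6, 0), (0, 12, 0, 7, 0), (0, 13, 0, 15, 0), (0, 14, 0, 10, 0), (0, 15, 0, 13, 0)], 0⟩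
def S3_2 : GenC := ⟨17, [],
  [(0, 0, 0, 3, 0), (0, 1, 0, 6, 0), (0, 2, 0, 8, 0), (0, 3, 0, 0, 0), (0, 4, 0, 10, 0), (0, 5, 0, 11, 0), (0, 6, 0, 1, 0), (0, 7, 0, 13, 0), (0, 8, 0, 2, 0), (0, 9, 0, 14, 0), (0, 10, 0, 4, 0), (0, 11, 0, 5, 0), (0, 12, 0, 15, 0), (0, 13, 0, 7, 0), (0, 14, 0, 9, 0), (0, 15, 0, 12, 0)], 0⟩
def S3_3 : GenC := ⟨18, [],
  [(0, 0, 0, 4, 0), (0, 1, 0, 7, 0), (0, 2, 0, 9, 0), (0, 3, 0, 10, 0), (0, 4, 0, 0, 0), (0, 5, 0, 12, 0), (0, 6, 0, 13, 0), (0, 7, 0, 1, 0), (0, 8, 0, 14, 0), (0, 9, 0, 2, 0), (0, 10, 0, 3, 0), (0, 11, 0, 15, 0), (0, 12, 0, 5, 0), (0, 13, 0, 6, 0), (0, 14, 0, 8, 0), (0, 15, 0, 11, 0)], 0⟩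
def L3 : Level := ⟨0x0, 0x3c000, [], 1, 5, 0, 16, [R3_0, R3_1, R3_2, R3_3, R3_4, R3_5, R3_6, R3_7, R3_8, R3_9, R3_10, R3_11, R3_12, R3_13, R3_14], [S3_0, S3_1, S3_2, S3_3]⟩
def X3 : Ext := []

def R2_0 : RepC := ⟨9, 1, [(16, 0x120f), (15, 0x1211100f), (0x110f, 0x100f), (18, 17)],
  [(7, 1, [1, 2, 3, 4])]⟩
def R2_1 : RepC := ⟨10, 1, [(17, 18), (0x1110, 0x100f), (15, 0x121110), (0x12100f, 0x120f)],
  [(16, 1, [1, 2, 3, 4])]⟩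
def S2_0 : GenC := ⟨10, [(0x1211, 18)],
  [(0, 0, 0, 2, 0), (0, 1, 0, 0, 0), (0, 2, 0, 1, 0)], 0⟩
def L2 : Level := ⟨0x3c000, 0x3ff00, [15, 16, 17, 18], 16, 2, 0, 3, [R2_0, R2_1], [S2_0]⟩
def X2 : Ext := [(8, 10, 0), (10, 0, 0x912), (11, 11, 0), (12, 0, 0x9120f), (13, 13, 0)]

def R1_0 : RepC := ⟨0x706, 3, [(15, 0x121110), (18, 0x100f), (16, 0x110f), (0x1110, 0x1211)],
  [(16, 1, [1, 2, 3, 4])]⟩
def R1_1 : RepC := ⟨5, 16, [(0xa11, 0x91110)],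
  [(2, 2, [1])]⟩
def S1_0 : GenC := ⟨6, [(0xa11, 0x91110)],
  [(0, 0, 0xc10, 2, 0xa121110), (0, 2, 0, 0, 0), (0xc10, 2, 0x90f, 2, 0x1210), (18, 2, 15, 2, 0xa1211100f), (13, 2, 0xd11, 2, 0xa1110), (16, 2, 17, 2, 0x91211100f), (0, 1, 16, 2, 0xa12110f), (15, 2, 10, 1, 0xa12110f)], 2⟩
def L1 : Level := ⟨0x3ff00, 0x3fff0, [10, 15, 16, 17, 18], 48, 1, 0, 20, [R1_0, R1_1], [S1_0]⟩
def X1 : Ext := [(4, 6, 0), (6, 0, 0x12050912), (7, 7, 0)]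

def R0_0 : RepC := ⟨0x502, 20, [(0x91210, 0x512), (15, 0x1106120f), (17, 0xa0612100f)],
  [(11, 2, [1, 2, 3]), (4, 2, [1])]⟩
def S0_0 : GenC := ⟨2, [(0x710, 0x6060a120f), (0x1206, 0x9060911100f), (0x120609120f, 0xa0612100f)],
  [(0, 0, 6, 1, 0), (8, 1, 0, 0, 0x50f0609120f), (6, 1, 0xb06, 1, 0x11061110), (0, 1, 0xa06, 1, 0x80a12110f)], 2⟩
def L0 : Level := ⟨0x3fff0, 0x3ffff, [6, 10, 15, 16, 17, 18], 960, 0, 0, 21, [R0_0], [S0_0]⟩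
def X0 : Ext := [(0, 2, 0), (2, 0, 0x7021006091110), (3, 3, 0)]

def top : List ℕ := [1, 3]
def gs : List ℕ := [2, 6, 10, 15, 16, 17, 18]
def XD : Ext := [(1, 1, 0), (3, 3, 0), (4, 0, 0x303020404), (5, 5, 0), (6, 0, 0x40104010301), (7, 7, 0), (8, 0, 0x8060806060805), (9, 9, 0), (10, 0, 0x6060806060706), (11, 11, 0), (12, 0, 0x806080805070505), (13, 13, 0), (14, 0, 0xc0d), (15, 0, 0xd0a), (16, 0, 0xa0c0a), (17, 0, 0xc0a0a)]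
def MX : Level.MaxC := [[(6, [0])]]
def NC : NclD := ⟨4, 7, [(0, [0x11020b09, 0xe040f060a100f]), (2, [0xc090d05, 0xe04100609121110])]⟩

/-- all the equations of the certificate -/
structure Eqs {G : Type*} [Group G] (g : ℕ → G) : Prop where
  l3 : AllHold g L3.eqns
  x3 : AllHold g X3.eqns
  l2 : AllHold g L2.eqns
  x2 : AllHold g X2.eqns
  l1 : AllHold g L1.eqns
  x1 : AllHold g X1.eqns
  l0 : AllHold g L0.eqns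
  x0 : AllHold g X0.eqns
  xd : AllHold g XD.eqns
  mx : AllHold g (L0.maxEqns MX)
  nc : AllHold g NC.eqns

end CfsgLib.LieModel.L34.P
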